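import Cfsg.Agent.H766.QW.Tau
set_option linter.all false

/-! # S5176, section 5.1: the normal form (helper766; plan: tools/plans/S5176.md, S5176_five.lean) -/
set_option autoImplicit false
set_option linter.unusedSectionVars false

namespace Cfsg.Agent.H766.QW
open Cfsg Cfsg.FusionSystem Cfsg.Agent.H752 Cfsg.Agent.H784.SF Cfsg.Agent.H784.Q

universe u

variable {Ω : Type u} [Group Ω] {S : Subgroup Ω}
variable {F : FusionSystem S} {R : Subgroup Ω} {a b z r : Ω} {m : ℕ}
variable {t c d k w : Ω} {β : Ω → Ω}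

section
variable (h : CaseA8 F R a b z r m t c d k w β) [Finite S]
include h

lemma wb : w * b = b * w := (mem_cen.1 h.wK).2 b h.sit.qr.bR
lemma wa : w * a = a * w := (mem_cen.1 h.wK).2 a h.sit.qr.aR
lemma wS : w ∈ S := (mem_cen.1 h.wK).1

lemma wt : w * t = t * z * w := by
  have h1 : w * r = r * w := (mem_cen.1 h.wK).2 r h.sit.qr.rR
  have h2 : w * c = c⁻¹ * w := by
    obtain ⟨i, hi⟩ := h.ck
    have h3 : w * k * w⁻¹ = k⁻¹ := by rw [h.wk, mul_inv_cancel_right]
    have h4 : w * k ^ i * w⁻¹ = (k ^ i)⁻¹ := by rw [← conj_zpow, h3, inv_zpow]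
    have h5 : k ^ i = c := hi
    rw [h5] at h4
    rw [← h4, inv_mul_cancel_right]
  have h3 : c⁻¹ = c * z := by
    rw [inv_eq_iff_mul_eq_one, ← mul_assoc, h.cc, h.sit.qr.zz]
  have h4 : c * z = z * c := h.sit.z_centr c (mem_cen.1 h.cK).1
  rw [h.tc, ← mul_assoc, h1, mul_assoc, h2, h3]
  group

lemma bwt : b * w * t = t * (b * w) := by
  have h1 : b * t = t * z * b := by
    have := h.bt
    rw [← this, inv_mul_cancel_right]
  have hz : b * z = z * b := h.sit.z_centr b h.sit.bS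
  calc b * w * t = b * (w * t) := by group
    _ = (b * t) * z * w := by rw [wt h]; group
    _ = t * (z * b) * z * w := by rw [h1]; group
    _ = t * b * (z * z) * w := by rw [← hz]; group
    _ = t * (b * w) := by rw [h.sit.qr.zz]; group

lemma bwC : b * w ∈ CS S t := mem_CS.2 ⟨mul_mem h.sit.bS (wS h), bwt h⟩

lemma M_pow {x : Ω} (hx : x ∈ Subgroup.zpowers a ⊔ Subgroup.zpowers d) : x ^ 2 ^ m = 1 := by
  obtain ⟨i, j, rfl⟩ := h.mem_M.1 hx
  have hc : Commute (a ^ i) (d ^ j) := (cad h.toCaseA j i).symm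
  rw [hc.mul_pow, ← zpow_natCast, ← zpow_natCast, ← zpow_mul, ← zpow_mul, mul_comm i, mul_comm j, zpow_mul, zpow_mul,
    zpow_natCast, zpow_natCast]
  nth_rw 1 [← h.sit.qr.oa]
  nth_rw 1 [← h.od]
  rw [pow_orderOf_eq_one, pow_orderOf_eq_one, one_zpow, one_zpow, one_mul]

lemma inv_M {x : Ω} (hx : x ∈ Subgroup.zpowers a ⊔ Subgroup.zpowers d) : b * w * x = x⁻¹ * (b * w) := by
  obtain ⟨l, hl⟩ := h.pow _ (bwC h)
  have h1 : b * w * a * (b * w)⁻¹ = a⁻¹ := by
    calc b * w * a * (b * w)⁻¹ = b * (w * a * w⁻¹) * b⁻¹ := by group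
      _ = b * a * b⁻¹ := by rw [wa h, mul_inv_cancel_right]
      _ = a⁻¹ := by rw [h.sit.qr.ba, mul_inv_cancel_right]
  have h2 : a ^ (l + 1) = 1 := by rw [pow_succ, ← hl a h.aM, h1, inv_mul_cancel]
  have h3 : 2 ^ m ∣ l + 1 := by rw [← h.sit.qr.oa]; exact orderOf_dvd_of_pow_eq_one h2
  have h4 : x ^ (l + 1) = 1 := by
    obtain ⟨g, hg⟩ := h3
    rw [hg, pow_mul, M_pow h hx, one_pow]
  have h5 : b * w * x * (b * w)⁻¹ = x⁻¹ := by
    rw [hl x hx, ← mul_eq_one_iff_eq_inv, ← pow_succ, h4]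
  rw [← h5, inv_mul_cancel_right]

lemma mem_C {s : Ω} (hs : s ∈ CS S t) :
    s ∈ Subgroup.zpowers a ⊔ Subgroup.zpowers d ∨ ∃ x ∈ Subgroup.zpowers a ⊔ Subgroup.zpowers d, s = x * (b * w) := by
  obtain ⟨x, hx, h1⟩ := h.gen s (mem_CS.1 hs).1
  have hst := (mem_CS.1 hs).2
  have hxt : x * t = t * x := h.M_comm hx h.tM
  have hne : t * z ≠ t := fun h3 => h.sit.qr.z_ne (mul_eq_left.1 h3)
  rcases h1 with rfl | rfl | rfl | rfl
  · exact Or.inl hx
  · exfalso
    apply hne
    have h2 : x * (b * t) = x * (t * b) := by rw [← mul_assoc, hst, ← mul_assoc, ← hxt]; group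
    have h3 := mul_left_cancel h2
    rw [← h.bt, h3, mul_inv_cancel_right]
  · exfalso
    apply hne
    have h2 : x * (w * t) = x * (t * w) := by rw [← mul_assoc, hst, ← mul_assoc, ← hxt]; group
    have h3 := mul_left_cancel h2
    rw [wt h] at h3
    exact mul_right_cancel h3
  · exact Or.inr ⟨x, hx, rfl⟩

lemma mulM (p q p' q' : ℤ) : a ^ p * d ^ q * (a ^ p' * d ^ q') = a ^ (p + p') * d ^ (q + q') := by
  rw [mul_assoc, ← mul_assoc (d ^ q), cad h.toCaseA, mul_assoc (a ^ p'), ← zpow_add, ← mul_assoc, ← zpow_add]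

/-- the class of `b w a^p` modulo `M²` is fixed by `β`. -/
lemma class_fix : ∃ p g : ℤ, β (b * a ^ p * w) = b * a ^ p * w * d ^ (2 * g) := by
  obtain ⟨hβa, hβd⟩ := beta_eq h.toCaseA
  have hmp := h.v.mp
  have hβa' : β a = d ^ (-1 : ℤ) := by rw [hβa, zpow_neg_one]
  have hβd' : β d = a ^ (1 : ℤ) * d ^ (-1 : ℤ) := by rw [hβd, zpow_neg_one, zpow_one]
  have hM := beta_M h.toCaseA hβa' hβd'
  obtain ⟨p, q, hu⟩ := h.mem_M.1 (h.β_M (bwC h))
  have hβι : β (b * w) = b * w * (a ^ p * d ^ q) := by rw [← hu]; group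
  have hwa : ∀ p : ℤ, a ^ p * w = w * a ^ p := fun p => ((show Commute w a from wa h).zpow_right p).eq.symm
  have hMC : ∀ p q : ℤ, a ^ p * d ^ q ∈ CS S t := fun p q => h.MC (h.mem_M.2 ⟨p, q, rfl⟩)
  have hcls : ∀ p' q' : ℤ, β (b * w * (a ^ p' * d ^ q')) = b * w * (a ^ (p + q') * d ^ (q - p' - q')) := by
    intro p' q'
    rw [hmp.mul (bwC h) (hMC _ _), hM, hβι, mul_assoc, mulM h]
    congr 3 <;> ring
  -- `e`
  obtain ⟨e, he, hmul⟩ := h.sit.exists_e
  have heM : ∀ p q : ℤ, e (a ^ p * d ^ q) = q := by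
    intro p q
    rw [hmul _ (zpow_mem h.sit.aS _) _ (zpow_mem h.dS _), h.e_zpow he hmul h.sit.aS, h.e_zpow he hmul h.dS, h.e_a he,
      h.e_d he]
    ring
  have heι : e (b * w) = 0 := by
    rw [hmul _ h.sit.bS _ (wS h), h.e_b he, h.e_K he h.wK, add_zero]
  have heC : ∀ p q : ℤ, e (b * w * (a ^ p * d ^ q)) = q := by
    intro p q
    rw [hmul _ (mem_CS.1 (bwC h)).1 _ (mem_CS.1 (hMC _ _)).1, heM, heι, zero_add]
  have heven : Even (q - p) := by
    by_contra hodd
    rw [Int.not_even_iff_odd] at hodd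
    have ht₁ : b * w * (a ^ q * d ^ (q - p)) ∈ CS S t := mul_mem (bwC h) (hMC _ _)
    have h2ne : (2 : ZMod 2) = 0 := by decide
    have hone : ((q - p : ℤ) : ZMod 2) = 1 := by
      obtain ⟨l, hl⟩ := hodd
      rw [hl]; push_cast; rw [h2ne]; ring
    obtain ⟨j, hj⟩ := h.sit.b_conj (mem_CS.1 ht₁).1
    have hjo : Odd j := by
      have h3 := he _ _ hj
      rw [heC, hone] at h3
      by_contra hev
      rw [Int.not_odd_iff_even] at hev
      obtain ⟨l, hl⟩ := hev
      rw [hl] at h3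
      push_cast at h3
      have h4 : ((l : ZMod 2) + l) = 2 * l := by ring
      rw [h4, h2ne, zero_mul] at h3
      exact one_ne_zero h3
    rcases h.good he hmul ht₁ hjo hj with h3 | h3
    · rw [hcls, heC] at h3
      have h5 : (q - q - (q - p) : ℤ) = -(q - p) := by ring
      rw [h5, Int.cast_neg, hone] at h3
      revert h3; decide
    · rw [hcls, hcls, heC] at h3
      have h5 : (q - (p + (q - p)) - (q - q - (q - p)) : ℤ) = q - p := by ring
      rw [h5, hone] at h3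
      exact one_ne_zero h3
  obtain ⟨g, hg⟩ := heven
  refine ⟨p, g, ?_⟩
  have e1 : b * a ^ p * w = b * w * (a ^ p * d ^ (0 : ℤ)) := by rw [mul_assoc, hwa, zpow_zero, mul_one, mul_assoc]
  have e3 : d ^ (2 * g) = a ^ (0 : ℤ) * d ^ (2 * g) := by rw [zpow_zero, one_mul]
  rw [e1, hcls, mul_assoc (b * w) (a ^ p * d ^ (0 : ℤ)), e3, mulM h]
  have e4 : q - p - 0 = 0 + 2 * g := by rw [sub_zero, hg]; ring
  rw [e4]

end

end Cfsg.Agent.H766.QW

namespace Cfsg.Agent.H784.Q
open Cfsg Cfsg.FusionSystem Cfsg.Agent.H752 Cfsg.Agent.H784.SF Cfsg.Agent.H766.QW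

universe u

variable {Ω : Type u} [Group Ω] {S : Subgroup Ω} [Finite S] {F : FusionSystem S} {R : Subgroup Ω} {a b z r : Ω} {m : ℕ}
  {t c d k w : Ω} {β : Ω → Ω}

/-- **5.1**: the normal form of `β`. -/
theorem CaseA8.nf (h : CaseA8 F R a b z r m t c d k w β) : ∃ b' β', NF F R a b' z r m t c d k w β' := by
  obtain ⟨hβa, hβd⟩ := beta_eq h.toCaseA
  have hmp := h.v.mp
  have hβa' : β a = d ^ (-1 : ℤ) := by rw [hβa, zpow_neg_one]
  have hβd' : β d = a ^ (1 : ℤ) * d ^ (-1 : ℤ) := by rw [hβd, zpow_neg_one, zpow_one]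
  have hM := beta_M h.toCaseA hβa' hβd'
  obtain ⟨p, g, hfix⟩ := class_fix h
  have hdgM : ∀ g : ℤ, d ^ g ∈ Subgroup.zpowers a ⊔ Subgroup.zpowers d := fun g => Subgroup.zpow_mem _ h.dM g
  have hapM : ∀ g : ℤ, a ^ g ∈ Subgroup.zpowers a ⊔ Subgroup.zpowers d := fun g => Subgroup.zpow_mem _ h.aM g
  have hdgS : d ^ g ∈ S := h.MS (hdgM g)
  have hm := h.sit.qr.m3
  have q := h.sit.qr
  have hpow1 : 1 ≤ 2 ^ m := Nat.one_le_two_pow
  have haz : ∀ j : ℤ, a ^ j = a ^ (j % 2 ^ m).toNat := by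
    intro j
    rw [← zpow_natCast, Int.toNat_of_nonneg (Int.emod_nonneg _ (by positivity)), zpow_eq_iff q.oa]
    exact Int.dvd_self_sub_emod
  have hd2 : d ^ (2 ^ m - 1) = d⁻¹ := by
    rw [eq_inv_iff_mul_eq_one, ← pow_succ, Nat.sub_add_cancel hpow1, ← h.od, pow_orderOf_eq_one]
  have hwa : ∀ p : ℤ, a ^ p * w = w * a ^ p := fun p => ((show Commute w a from wa h).zpow_right p).eq.symm
  have hb'w : b * a ^ p * w = b * w * a ^ p := by rw [mul_assoc, hwa, mul_assoc]
  have hba : ∀ p : ℤ, b * a ^ p = a ^ (-p) * b := fun p => by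
    have := q.baz p
    rw [← this, inv_mul_cancel_right]
  -- `b'`
  have hb'R : b * a ^ p ∈ R := mul_mem q.bR (zpow_mem q.aR p)
  have hbb' : b * a ^ p * (b * a ^ p) = z := by
    calc b * a ^ p * (b * a ^ p) = (b * a ^ p) * b * a ^ p := by group
      _ = a ^ (-p) * b * b * a ^ p := by rw [hba]
      _ = a ^ (-p) * z * a ^ p := by rw [mul_assoc (a ^ (-p)), q.bb]
      _ = z := by
        have hz : z * a ^ p = a ^ p * z := (h.sit.z_centr _ (h.MS (hapM p))).symm
        rw [mul_assoc, hz, ← mul_assoc, ← zpow_add]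
        simp
  -- the new `β`
  let β' : Ω → Ω := fun x => d ^ g * β x * (d ^ g)⁻¹
  have hβ'M : ∀ x ∈ Subgroup.zpowers a ⊔ Subgroup.zpowers d, β' x = β x := by
    intro x hx
    show d ^ g * β x * (d ^ g)⁻¹ = β x
    rw [h.M_comm (hdgM g) (h.Mβ x hx), mul_inv_cancel_right]
  have hmp' : Mp F (CS S t) β' := hmp.comp (mp_conj F (inf_le_left : CS S t ≤ S) hdgS) h.v.maps
  have hmaps' : ∀ x ∈ CS S t, β' x ∈ CS S t := fun x hx => h.C_conj hdgS (h.v.maps x hx)
  have hι'C : b * a ^ p * w ∈ CS S t := by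
    rw [hb'w]
    exact mul_mem (bwC h) (h.MC (hapM p))
  have hinv' : ∀ x ∈ Subgroup.zpowers a ⊔ Subgroup.zpowers d, b * a ^ p * w * x = x⁻¹ * (b * a ^ p * w) := by
    intro x hx
    rw [hb'w, mul_assoc, h.M_comm (hapM p) hx, ← mul_assoc, inv_M h hx, mul_assoc]
  have hβi' : β' (b * a ^ p * w) = b * a ^ p * w := by
    show d ^ g * β (b * a ^ p * w) * (d ^ g)⁻¹ = b * a ^ p * w
    have h1 : d ^ g * (b * a ^ p * w) = b * a ^ p * w * (d ^ g)⁻¹ := by
      rw [hinv' _ (inv_mem (hdgM g)), inv_inv]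
    calc d ^ g * β (b * a ^ p * w) * (d ^ g)⁻¹ = d ^ g * (b * a ^ p * w) * d ^ (2 * g) * (d ^ g)⁻¹ := by rw [hfix]; group
      _ = b * a ^ p * w * ((d ^ g)⁻¹ * d ^ (2 * g) * (d ^ g)⁻¹) := by rw [h1]; group
      _ = b * a ^ p * w := by rw [two_mul, zpow_add]; group
  have h3M : ∀ x ∈ Subgroup.zpowers a ⊔ Subgroup.zpowers d, β' (β' (β' x)) = x := by
    intro x hx
    have hx1 : β' x ∈ Subgroup.zpowers a ⊔ Subgroup.zpowers d := by rw [hβ'M x hx]; exact h.Mβ x hx
    have hx2 : β' (β' x) ∈ Subgroup.zpowers a ⊔ Subgroup.zpowers d := by rw [hβ'M _ hx1]; exact h.Mβ _ hx1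
    rw [hβ'M _ hx2, hβ'M _ hx1, hβ'M x hx]
    obtain ⟨i, j, rfl⟩ := h.mem_M.1 hx
    rw [hM, hM, hM]
    congr 2 <;> ring
  have h3 : ∀ x ∈ CS S t, β' (β' (β' x)) = x := by
    intro x hx
    rcases mem_C h hx with h1 | ⟨y, hy, h1⟩
    · exact h3M x h1
    · have h2 : x = (y * a ^ p) * (b * a ^ p * w) := by
        rw [h1, hb'w]
        have h4 : a ^ p * (b * w) = b * w * (a ^ p)⁻¹ := by rw [inv_M h (inv_mem (hapM p)), inv_inv]
        calc y * (b * w) = y * (b * w * (a ^ p)⁻¹) * a ^ p := by group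
          _ = y * (a ^ p * (b * w)) * a ^ p := by rw [h4]
          _ = _ := by group
      have hyM : y * a ^ p ∈ Subgroup.zpowers a ⊔ Subgroup.zpowers d := mul_mem hy (hapM p)
      have hyC := h.MC hyM
      rw [h2, hmp'.mul hyC hι'C, hβi', hmp'.mul (hmaps' _ hyC) hι'C, hβi', hmp'.mul (hmaps' _ (hmaps' _ hyC)) hι'C, hβi',
        h3M _ hyM]
  have hfinC : Finite (CS S t) := H802.finite_of_le (inf_le_left : CS S t ≤ S)
  refine ⟨b * a ^ p, β', ?_⟩
  exact
    { sit :=
        { qr :=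
            { m3 := q.m3
              aR := q.aR
              bR := hb'R
              oa := q.oa
              hz := q.hz
              hr := q.hr
              bb := hbb'
              ba := by
                have h1 := hba (p + 1)
                have h2 := hba p
                rw [mul_assoc, ← zpow_add_one, h1, h2, neg_add, zpow_add, zpow_neg_one, h.M_comm (hapM _) (inv_mem h.aM), mul_assoc]
              bA := by
                intro h1
                exact q.bA (by simpa using mul_mem h1 (inv_mem (Subgroup.zpow_mem _ (Subgroup.mem_zpowers a) p)))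
              gen := by
                intro x hx
                obtain ⟨i, h1 | h1⟩ := q.gen x hx
                · exact ⟨i, Or.inl h1⟩
                · refine ⟨((i - p : ℤ) % 2 ^ m).toNat, Or.inr ?_⟩
                  rw [← haz, h1, mul_assoc, ← zpow_add, add_sub_cancel, zpow_natCast] }
          hS := h.sit.hS
          sat := h.sit.sat
          RS := h.sit.RS
          weak := h.sit.weak
          cen := h.sit.cen
          foc := h.sit.foc
          nz := h.sit.nz }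
      v :=
        { cj := h.v.cj
          ne := h.v.ne
          mp := hmp'
          maps := hmaps'
          surj := fun x hx => hmp'.surj hmaps' hx
          βz := by rw [hβ'M _ h.zM, h.v.βz]
          βt := by rw [hβ'M _ h.tM, h.v.βt]
          odd := ⟨3, by decide, h3⟩ }
      tc := h.tc
      cK := h.cK
      cc := h.cc
      dC := h.dC
      od := h.od
      da := h.da
      bd := by
        have h1 : a ^ p * d = d * a ^ p := (h.M_comm (hapM p) h.dM)
        rw [mul_assoc, h1, ← mul_assoc, h.bd]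
        group
      disj := h.disj
      td := h.td
      βa := ⟨2 ^ m - 1, by
        obtain ⟨m', rfl⟩ : ∃ m', m = m' + 1 := ⟨m - 1, by omega⟩
        refine ⟨2 ^ m' - 1, ?_⟩
        have : 1 ≤ 2 ^ m' := Nat.one_le_two_pow
        rw [pow_succ]; omega, by rw [hβ'M _ h.aM, hβa, hd2]⟩
      hk := h.hk
      kK := h.kK
      ok := h.ok
      K₀ := h.K₀
      ck := h.ck
      Mβ := fun x hx => by rw [hβ'M x hx]; exact h.Mβ x hx
      cM := h.cM
      pow := h.pow
      Vn := h.Vn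
      K := h.K
      wK := h.wK
      wk := h.wk
      ww := h.ww
      wn := h.wn
      Kgen := h.Kgen
      gen := by
        intro s hs
        obtain ⟨x, hx, h1⟩ := h.gen s hs
        have hab : ∀ y : Ω, a ^ (-p) * y = a ^ (-p) * y := fun _ => rfl
        have hb1 : b = a ^ p * (b * a ^ p) := by
          have := hba p
          rw [this, ← mul_assoc, ← zpow_add]; simp
        rcases h1 with h1 | h1 | h1 | h1
        · exact ⟨x, hx, Or.inl h1⟩
        · refine ⟨x * a ^ p, mul_mem hx (hapM p), Or.inr (Or.inl ?_)⟩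
          rw [mul_assoc, ← hb1, h1]
        · exact ⟨x, hx, Or.inr (Or.inr (Or.inl h1))⟩
        · refine ⟨x * a ^ p, mul_mem hx (hapM p), Or.inr (Or.inr (Or.inr ?_))⟩
          rw [mul_assoc, ← mul_assoc (a ^ p), ← hb1, h1]
      βa' := by rw [hβ'M _ h.aM, hβa]
      βd := by rw [hβ'M _ h.dM, hβd]
      βi := hβi' }

end Cfsg.Agent.H784.Q
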