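import Cfsg.Agent.H766.QW.Nf
set_option linter.all false

/-! # S5176, section 5.1: `i = -1` (helper766; plan: tools/plans/S5176.md, S5176_five.lean) -/
set_option autoImplicit false
set_option linter.unusedSectionVars false

namespace Cfsg.Agent.H766.QW
open Cfsg Cfsg.FusionSystem Cfsg.Agent.H752 Cfsg.Agent.H784.SF Cfsg.Agent.H784.Q

universe u

variable {Ω : Type u} [Group Ω] {S : Subgroup Ω}
variable {F : FusionSystem S} {R : Subgroup Ω} {a b z r : Ω} {m : ℕ}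
variable {t c d k : Ω} {β : Ω → Ω}

section
variable (h : CaseA F R a b z r m t c d k β) [Finite S]
include h

/-- The automorphism `τ = c_b β c_b⁻¹ β` of `C_S(t)` has an odd power which is inner. -/
theorem tau_inner : ∃ τ : MulAut (CS S t), (∀ x : CS S t, ((τ x : CS S t) : Ω) = b * β (b⁻¹ * β x * b) * b⁻¹) ∧
    ∃ n : ℕ, Odd n ∧ ∃ s ∈ CS S t, ∀ x : CS S t, (((τ ^ n) x : CS S t) : Ω) = s * x * s⁻¹ := by
  have hβm := h.v.mp
  have hCS : CS S t ≤ S := inf_le_left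
  have hfinC : Finite (CS S t) := H802.finite_of_le hCS
  obtain ⟨B, hB, hBβ⟩ := h.v.mp.exists_aut h.v.maps
  obtain ⟨Sg, hSg, hSgb⟩ := (mp_conj F hCS h.sit.bS).exists_aut (fun x hx => h.C_conj h.sit.bS hx)
  have hCi : ∀ x : Ω, x ∈ CS S t → b⁻¹ * x * b ∈ CS S t := by
    intro x hx
    have := h.C_conj (Subgroup.inv_mem _ h.sit.bS) hx
    rwa [inv_inv] at this
  have hSgi : ∀ (x : Ω) (hx : x ∈ CS S t), ((Sg⁻¹ ⟨x, hx⟩ : CS S t) : Ω) = b⁻¹ * x * b := by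
    intro x hx
    have h1 : b⁻¹ * x * b ∈ CS S t := hCi x hx
    have h2 : Sg ⟨b⁻¹ * x * b, h1⟩ = ⟨x, hx⟩ := Subtype.ext (by
      rw [← hSgb _ h1]
      group)
    rw [← h2, MulAut.inv_apply_self]
  have hzC : z ∈ CS S t := h.MC h.zM
  have htC : t ∈ CS S t := h.MC h.tM
  have haC : a ∈ CS S t := h.MC h.aM
  let zc : CS S t := ⟨z, hzC⟩
  let tc : CS S t := ⟨t, htC⟩
  have hBz : B zc = tc := Subtype.ext (by rw [← hBβ, h.v.βz])
  have hBt : B tc = tc * zc := Subtype.ext (by rw [← hBβ, h.v.βt]; rfl)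
  have hSz : Sg zc = zc := Subtype.ext (by
    rw [← hSgb, h.sit.z_centr b h.sit.bS, mul_inv_cancel_right])
  have hSt : Sg tc = tc * zc := Subtype.ext (by rw [← hSgb, h.bt]; rfl)
  have hzz : zc * zc = 1 := Subtype.ext h.sit.qr.zz
  have htt : tc * tc = 1 := Subtype.ext h.tt
  have htzc : tc * zc = zc * tc := Subtype.ext h.tzt
  have hSit : Sg⁻¹ tc = tc * zc := by
    have h1 : Sg (tc * zc) = tc := by rw [map_mul, hSt, hSz, mul_assoc, hzz, mul_one]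
    rw [← h1, MulAut.inv_apply_self, h1]
  have hSiz : Sg⁻¹ zc = zc := by
    nth_rw 1 [← hSz]
    rw [MulAut.inv_apply_self]
  obtain ⟨τ, hτ⟩ : ∃ τ : MulAut (CS S t), τ = Sg * B * Sg⁻¹ * B := ⟨_, rfl⟩
  have hτF : τ ∈ F.autGroup (CS S t) := by
    rw [hτ]
    exact mul_mem (mul_mem (mul_mem hSg hB) (Subgroup.inv_mem _ hSg)) hB
  have hτa : ∀ x, τ x = Sg (B (Sg⁻¹ (B x))) := fun x => by rw [hτ]; rfl
  have hτz : τ zc = zc := by
    rw [hτa, hBz, hSit, map_mul, hBt, hBz, map_mul, map_mul, hSt, hSz, mul_assoc tc zc zc, hzz, mul_one, ← mul_assoc,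
      htt, one_mul]
  have hτt : τ tc = tc := by
    rw [hτa, hBt, map_mul, hSit, hSiz, mul_assoc, hzz, mul_one, hBt, map_mul, hSt, hSz, mul_assoc, hzz, mul_one]
  -- `V`
  let V : Set Ω := {x | x = 1 ∨ x = z ∨ x = t ∨ x = t * z}
  have hVC : ∀ v ∈ V, v ∈ CS S t := by
    rintro v (rfl | rfl | rfl | rfl)
    · exact one_mem _
    · exact hzC
    · exact htC
    · exact mul_mem htC hzC
  have hVfix : ∀ v : CS S t, (v : Ω) ∈ V → τ v = v := by
    rintro v hv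
    have hv' : v = 1 ∨ v = zc ∨ v = tc ∨ v = tc * zc := by
      rcases hv with hv | hv | hv | hv
      · exact Or.inl (Subtype.ext hv)
      · exact Or.inr (Or.inl (Subtype.ext hv))
      · exact Or.inr (Or.inr (Or.inl (Subtype.ext hv)))
      · exact Or.inr (Or.inr (Or.inr (Subtype.ext hv)))
    rcases hv' with rfl | rfl | rfl | rfl
    · exact map_one τ
    · exact hτz
    · exact hτt
    · rw [map_mul, hτt, hτz]
  have hVcen : ∀ v : CS S t, (v : Ω) ∈ V → v * v = 1 ∧ ∀ y : CS S t, v * y = y * v := by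
    intro v hv
    have hv' : v = 1 ∨ v = zc ∨ v = tc ∨ v = tc * zc := by
      rcases hv with hv | hv | hv | hv
      · exact Or.inl (Subtype.ext hv)
      · exact Or.inr (Or.inl (Subtype.ext hv))
      · exact Or.inr (Or.inr (Or.inl (Subtype.ext hv)))
      · exact Or.inr (Or.inr (Or.inr (Subtype.ext hv)))
    have c1 : ∀ y : CS S t, zc * y = y * zc := fun y => Subtype.ext (h.sit.z_centr y (hCS y.2)).symm
    have c2 : ∀ y : CS S t, tc * y = y * tc := fun y => Subtype.ext (mem_CS.1 y.2).2.symm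
    rcases hv' with rfl | rfl | rfl | rfl
    · exact ⟨one_mul 1, fun y => by rw [one_mul, mul_one]⟩
    · exact ⟨hzz, c1⟩
    · exact ⟨htt, c2⟩
    · refine ⟨?_, fun y => ?_⟩
      · rw [mul_assoc, ← mul_assoc zc tc zc, ← htzc, mul_assoc tc zc zc, hzz, mul_one, htt]
      · rw [mul_assoc, c1, ← mul_assoc, c2, mul_assoc]
  have hVinv : ∀ α ∈ F.autGroup (CS S t), ∀ v : CS S t, (v : Ω) ∈ V → ((α v : CS S t) : Ω) ∈ V := by
    intro α _ v hv
    obtain ⟨h1, h2⟩ := hVcen v hv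
    have h3 : α v * α v = 1 := by rw [← map_mul, h1, map_one]
    have h4 : α v * ⟨a, haC⟩ = ⟨a, haC⟩ * α v := by
      obtain ⟨y, hy⟩ := α.surjective ⟨a, haC⟩
      rw [← hy, ← map_mul, ← map_mul, h2]
    have h5 : ((α v : CS S t) : Ω) ∈ Subgroup.zpowers a ⊔ Subgroup.zpowers d :=
      h.cM _ (α v).2 (congrArg Subtype.val h4)
    exact h.omega h5 (congrArg Subtype.val h3)
  obtain ⟨n, hn, s, hs, hτn⟩ := Cfsg.Agent.H780.inner_of_fix h.sit.hS h.sit.sat hCS (fun s hs x hx => h.C_conj hs hx) V hVinv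
    (fun s hs hv => mem_CS.2 ⟨hs, mul_inv_eq_iff_eq_mul.1 (hv t (Or.inr (Or.inr (Or.inl rfl))))⟩) hVC hτF hVfix
  refine ⟨τ, fun x => ?_, n, hn, s, hs, hτn⟩
  have h1 := h.v.maps x x.2
  have h2 : b⁻¹ * β x * b ∈ CS S t := hCi _ h1
  have e1 : B x = ⟨β x, h1⟩ := Subtype.ext (hBβ x x.2).symm
  have e2 : Sg⁻¹ ⟨β x, h1⟩ = ⟨b⁻¹ * β x * b, h2⟩ := Subtype.ext (hSgi _ h1)
  have e3 : B ⟨b⁻¹ * β x * b, h2⟩ = ⟨β (b⁻¹ * β x * b), h.v.maps _ h2⟩ := Subtype.ext (hBβ _ h2).symm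
  rw [hτa, e1, e2, e3, ← hSgb]

/-- `β a = d⁻¹`, `β d = a d⁻¹`. -/
theorem beta_eq : β a = d⁻¹ ∧ β d = a * d⁻¹ := by
  obtain ⟨i, x, hi, hβa, hβd, hix⟩ := beta_form h
  have hm := h.sit.qr.m3
  have hM := beta_M h hβa hβd
  suffices hi1 : (2 : ℤ) ^ m ∣ i + 1 by
    refine ⟨?_, ?_⟩
    · rw [hβa, ← zpow_neg_one, zpow_eq_iff h.od, sub_neg_eq_add]
      exact hi1
    · have hx1 : (2 : ℤ) ^ m ∣ x - 1 := by
        have e1 : x - 1 = x * (i + 1) - (i * x + 1) := by ring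
        rw [e1]
        exact dvd_sub (hi1.mul_left x) hix
      rw [hβd, zpow_neg_one, mul_left_inj, ← zpow_one a, ← zpow_mul, one_mul, zpow_eq_iff h.sit.qr.oa]
      exact hx1
  obtain ⟨τ, hτ, n, hn, s, hs, hτn⟩ := tau_inner h
  have hb : ∀ p q : ℤ, b * (a ^ p * d ^ q) * b⁻¹ = a ^ (-p - q) * d ^ q := by
    intro p q
    have h1 : b * a ^ p * b⁻¹ = a ^ (-p) := h.sit.qr.baz p
    have h2 : b * d * b⁻¹ = d * a⁻¹ := by rw [h.bd, mul_inv_cancel_right]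
    have h3 : b * d ^ q * b⁻¹ = d ^ q * a ^ (-q) := by
      have hc : Commute d a⁻¹ := (show Commute d a from h.da).inv_right
      rw [← conj_zpow, h2, hc.mul_zpow, inv_zpow, zpow_neg]
    calc b * (a ^ p * d ^ q) * b⁻¹ = (b * a ^ p * b⁻¹) * (b * d ^ q * b⁻¹) := by group
      _ = a ^ (-p - q) * d ^ q := by
        rw [h1, h3, cad h, ← mul_assoc, ← zpow_add]
        congr 2
  have hbi : ∀ p q : ℤ, b⁻¹ * (a ^ p * d ^ q) * b = a ^ (-p - q) * d ^ q := by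
    intro p q
    have h1 := hb (-p - q) q
    have e1 : -(-p - q) - q = p := by ring
    rw [e1] at h1
    rw [← h1]
    group
  have hτM : ∀ (p q : ℤ) (hx : a ^ p * d ^ q ∈ CS S t), ((τ ⟨a ^ p * d ^ q, hx⟩ : CS S t) : Ω) =
      a ^ (-(x * (i * p - q)) - (i * (-(x * q) - (i * p - q)) - (i * p - q))) *
        d ^ (i * (-(x * q) - (i * p - q)) - (i * p - q)) := by
    intro p q hx
    rw [hτ]
    show b * β (b⁻¹ * β (a ^ p * d ^ q) * b) * b⁻¹ = _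
    rw [hM, hbi, hM, hb]
    congr 2 <;> ring
  by_contra hcon
  -- `i + 1 = 2 ^ f e'`
  have hi1 : i + 1 ≠ 0 := by
    intro h0
    exact hcon (h0 ▸ dvd_zero _)
  obtain ⟨f, e', he', hfe⟩ : ∃ (f : ℕ) (e' : ℤ), Odd e' ∧ i + 1 = 2 ^ f * e' := by
    obtain ⟨f, e', h1, h2⟩ := Nat.exists_eq_two_pow_mul_odd (Int.natAbs_ne_zero.2 hi1)
    rcases Int.natAbs_eq (i + 1) with h3 | h3
    · refine ⟨f, e', by exact_mod_cast h1, ?_⟩
      rw [h3, h2]; push_cast; rfl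
    · refine ⟨f, -e', (by exact_mod_cast h1 : Odd (e' : ℤ)).neg, ?_⟩
      rw [h3, h2]; push_cast; ring
  have hfm : f < m := by
    by_contra h1
    exact hcon ((pow_dvd_pow 2 (not_lt.1 h1)).trans ⟨e', hfe⟩)
  have hf1 : f ≠ 0 := by
    rintro rfl
    rw [pow_zero, one_mul] at hfe
    have h1 : Odd (i + 1) := hfe ▸ he'
    exact Int.not_even_iff_odd.2 h1 (hi.add_odd odd_one)
  obtain ⟨g, hg⟩ : (2 : ℤ) ^ f ∣ i * x + 1 := (pow_dvd_pow 2 hfm.le).trans hix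
  have hx2 : Odd x := by
    have h1 : (2 : ℤ) ∣ i * x + 1 := (dvd_pow_self 2 (by omega)).trans hix
    have h2 : Odd (i * x) := by
      by_contra hev
      rw [Int.not_odd_iff_even] at hev
      exact Int.not_even_iff_odd.2 (hev.add_odd odd_one) (even_iff_two_dvd.2 h1)
    exact (Int.odd_mul.1 h2).2
  obtain ⟨f', rfl⟩ : ∃ f', f = f' + 1 := ⟨f - 1, by omega⟩
  have hiter : ∀ j : ℕ, ∃ p q : ℤ, Odd p ∧ Even (q - j) ∧ ∃ hx : a ^ p * d ^ (2 ^ (f' + 1) * q) ∈ CS S t,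
      (τ ^ j) ⟨a, h.MC h.aM⟩ = ⟨a ^ p * d ^ (2 ^ (f' + 1) * q), hx⟩ := by
    intro j
    induction j with
    | zero =>
      refine ⟨1, 0, odd_one, by simp, by simpa using h.MC h.aM, ?_⟩
      rw [pow_zero, MulAut.one_apply]
      exact Subtype.ext (by simp)
    | succ j ih =>
      obtain ⟨p, q, hp, hq, hx', hj⟩ := ih
      have h1 := hτM p (2 ^ (f' + 1) * q) hx'
      have h2 := (τ ⟨a ^ p * d ^ (2 ^ (f' + 1) * q), hx'⟩).2
      rw [h1] at h2
      have e1 : i * (-(x * (2 ^ (f' + 1) * q)) - (i * p - (2 ^ (f' + 1) * q))) - (i * p - (2 ^ (f' + 1) * q)) =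
          2 ^ (f' + 1) * (q - i * p * e' + e' * (2 ^ (f' + 1) * q) - g * (2 ^ (f' + 1) * q)) := by
        have e2 : i * (-(x * (2 ^ (f' + 1) * q)) - (i * p - (2 ^ (f' + 1) * q))) - (i * p - (2 ^ (f' + 1) * q)) =
          2 ^ (f' + 1) * q - (i * x + 1) * (2 ^ (f' + 1) * q) - (i + 1) * (i * p) + (i + 1) * (2 ^ (f' + 1) * q) := by ring
        rw [e2, hg, hfe]; ring
      rw [e1] at h2
      refine ⟨_, _, ?_, ?_, h2, ?_⟩
      · -- parity of the exponent of `a`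
        have hQ : Even (2 ^ (f' + 1) * q) := ⟨2 ^ f' * q, by rw [pow_succ]; ring⟩
        have hQ' : ∀ u : ℤ, Even (2 ^ (f' + 1) * u) := fun u => ⟨2 ^ f' * u, by rw [pow_succ]; ring⟩
        exact ((hx2.mul ((hi.mul hp).sub_even hQ)).neg).sub_even (hQ' _)
      · have hQ : Even (2 ^ (f' + 1) * q) := ⟨2 ^ f' * q, by rw [pow_succ]; ring⟩
        have h3 : Even (i * p * e' + 1) := ((hi.mul hp).mul he').add_odd odd_one
        have h4 := ((hq.sub h3).add (hQ.mul_left e')).sub (hQ.mul_left g)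
        have e3 : q - i * p * e' + e' * (2 ^ (f' + 1) * q) - g * (2 ^ (f' + 1) * q) - ((j + 1 : ℕ) : ℤ) =
          q - (j : ℤ) - (i * p * e' + 1) + e' * (2 ^ (f' + 1) * q) - g * (2 ^ (f' + 1) * q) := by
          push_cast; ring
        rw [e3]
        exact h4
      · rw [pow_succ', MulAut.mul_apply, hj]
        refine Subtype.ext ?_
        rw [h1, e1]
  obtain ⟨p, q, hp, hq, hx', hj⟩ := hiter n
  have h1 := hτn ⟨a, h.MC h.aM⟩
  rw [hj] at h1
  obtain ⟨l, hl⟩ := h.pow s hs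
  have h2 : a ^ p * d ^ (2 ^ (f' + 1) * q) = a ^ (l : ℤ) * d ^ (0 : ℤ) := by
    rw [zpow_zero, mul_one, zpow_natCast, ← hl a h.aM]
    exact h1
  have h3 := (indep h h2).2
  rw [sub_zero] at h3
  have hqo : Odd q := by
    have h4 : Odd (n : ℤ) := by exact_mod_cast hn
    have h5 := hq.add_odd h4
    rwa [sub_add_cancel] at h5
  have h4 : (2 : ℤ) ^ m ∣ 2 ^ (f' + 1) := (isCoprime_two_pow hqo).dvd_of_dvd_mul_right h3
  have h5 : (2 : ℕ) ^ m ∣ 2 ^ (f' + 1) := by exact_mod_cast h4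
  have h6 := (Nat.pow_dvd_pow_iff_le_right (by norm_num : 1 < 2)).1 h5
  omega

end

end Cfsg.Agent.H766.QW
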